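import Mathlib
import Groth.Agent.MonicDescLib.Basic

/-!
Approximation along `A[1/t] → A'[1/t]` when `A → A'` is bijective modulo every power of `t`.
-/

set_option autoImplicit false

universe u

namespace Groth.Agent.ApproxAwayLib

open Matrix

variable {A A' L L' : Type u} [CommRing A] [CommRing A'] [CommRing L] [CommRing L']

/-- The data `A → A'`, `L = A[1/t]`, `L' = A'[1/t]`. -/
structure Setup (t : A) (g : A →+* A') (i : A →+* L) (j : A' →+* L') (gL : L →+* L') : Prop where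
  comm : ∀ a, gL (i a) = j (g a)
  unit : IsUnit (i t)
  surjL : ∀ x : L, ∃ (k : ℕ) (a : A), x * i t ^ k = i a
  surjL' : ∀ x : L', ∃ (k : ℕ) (a : A'), x * j (g t) ^ k = j a
  kerJ : ∀ a : A', j a = 0 → ∃ k : ℕ, g t ^ k * a = 0
  jac : t ∈ Ideal.jacobson (⊥ : Ideal A)
  jac' : g t ∈ Ideal.jacobson (⊥ : Ideal A')
  approx : ∀ (n : ℕ) (a' : A'), ∃ a : A, a' - g a ∈ Ideal.span {g t ^ n}
  refl : ∀ (n : ℕ) (a : A), g a ∈ Ideal.span {g t ^ n} → a ∈ Ideal.span {t ^ n}

variable {p q r : Type}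

/-- `M` lies in the image of `tⁿA'`. -/
def Sm (j : A' →+* L') (τ : A') (n : ℕ) (M : Matrix p q L') : Prop :=
  ∃ N : Matrix p q A', M = j τ ^ n • N.map j

section
variable {j : A' →+* L'} {τ : A'} {n m : ℕ} {M M' : Matrix p q L'}

theorem Sm.mono (h : Sm j τ n M) (hm : m ≤ n) : Sm j τ m M := by
  obtain ⟨N, rfl⟩ := h
  refine ⟨τ ^ (n - m) • N, ?_⟩
  rw [MonicDescLib.map_smul_ring, smul_smul, map_pow, ← pow_add, Nat.add_sub_cancel' hm]

theorem Sm.add (h : Sm j τ n M) (h' : Sm j τ n M') : Sm j τ n (M + M') := by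
  obtain ⟨N, rfl⟩ := h
  obtain ⟨N', rfl⟩ := h'
  exact ⟨N + N', by rw [Matrix.map_add _ (map_add j), smul_add]⟩

theorem Sm.neg (h : Sm j τ n M) : Sm j τ n (-M) := by
  obtain ⟨N, rfl⟩ := h
  refine ⟨-N, ?_⟩
  ext1 a b
  simp

theorem Sm.sub (h : Sm j τ n M) (h' : Sm j τ n M') : Sm j τ n (M - M') := by
  rw [sub_eq_add_neg]
  exact h.add h'.neg

theorem Sm.sub_comm (h : Sm j τ n (M - M')) : Sm j τ n (M' - M) := by
  rw [← neg_sub]
  exact h.neg

variable [Fintype q]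

theorem Sm.mul {N : Matrix q r L'} (h : Sm j τ n M) (h' : Sm j τ m N) : Sm j τ (n + m) (M * N) := by
  obtain ⟨M₀, rfl⟩ := h
  obtain ⟨N₀, rfl⟩ := h'
  exact ⟨M₀ * N₀, by rw [Matrix.map_mul, Matrix.smul_mul, Matrix.mul_smul, smul_smul, pow_add]⟩

/-- `M` has denominator at most `τ ^ k`. -/
def Bd (j : A' →+* L') (τ : A') (k : ℕ) (M : Matrix p q L') : Prop := Sm j τ 0 (j τ ^ k • M)

omit [Fintype q] in
theorem Bd.mono {k k' : ℕ} (h : Bd j τ k M) (hk : k ≤ k') : Bd j τ k' M := by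
  obtain ⟨N, hN⟩ := h
  rw [pow_zero, one_smul] at hN
  refine ⟨τ ^ (k' - k) • N, ?_⟩
  rw [pow_zero, one_smul, MonicDescLib.map_smul_ring, ← hN, smul_smul, map_pow, ← pow_add,
    Nat.sub_add_cancel hk]

omit [Fintype q] in
theorem Sm.bd_zero (h : Sm j τ n M) : Bd j τ 0 M := by
  have := h.mono (Nat.zero_le n)
  simpa [Bd] using this

omit [Fintype q] in
theorem Bd.add {k : ℕ} (h : Bd j τ k M) (h' : Bd j τ k M') : Bd j τ k (M + M') := by
  simp only [Bd, smul_add]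
  exact Sm.add h h'

theorem Bd.mul {k k' : ℕ} {N : Matrix q r L'} (h : Bd j τ k M) (h' : Bd j τ k' N) : Bd j τ (k + k') (M * N) := by
  have h2 := Sm.mul h h'
  rw [Matrix.smul_mul, Matrix.mul_smul, smul_smul, ← pow_add] at h2
  simpa [Bd] using h2

theorem Sm.bd_mul (hτ : IsUnit (j τ)) {k : ℕ} {N : Matrix q r L'} (hM : Bd j τ k M) (hN : Sm j τ (n + k) N) :
    Sm j τ n (M * N) := by
  obtain ⟨M₀, hM₀⟩ := hM
  obtain ⟨N₀, rfl⟩ := hN
  refine ⟨M₀ * N₀, ?_⟩
  rw [pow_zero, one_smul] at hM₀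
  rw [Matrix.mul_smul, Matrix.map_mul, ← hM₀, Matrix.smul_mul, smul_smul, pow_add]

theorem Sm.mul_bd (hτ : IsUnit (j τ)) {k : ℕ} {N : Matrix q r L'} (hM : Sm j τ (n + k) M) (hN : Bd j τ k N) :
    Sm j τ n (M * N) := by
  obtain ⟨M₀, rfl⟩ := hM
  obtain ⟨N₀, hN₀⟩ := hN
  refine ⟨M₀ * N₀, ?_⟩
  rw [pow_zero, one_smul] at hN₀
  rw [Matrix.smul_mul, Matrix.map_mul, ← hN₀, Matrix.mul_smul, smul_smul, pow_add]

variable [DecidableEq q]

omit [Fintype q] in
theorem bd_one : Bd j τ 0 (1 : Matrix q q L') :=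
  ⟨1, by simp [Matrix.map_one]⟩

end

/-- A matrix congruent to one modulo an element of the Jacobson radical is invertible. -/
theorem isUnit_one_add_smul {R : Type u} [CommRing R] {x : R} (hx : x ∈ Ideal.jacobson (⊥ : Ideal R))
    [Fintype p] [DecidableEq p] (D : Matrix p p R) : IsUnit (1 + x • D) := by
  rw [Matrix.isUnit_iff_isUnit_det]
  have h : Ideal.Quotient.mk (Ideal.span {x}) (1 + x • D).det = 1 := by
    rw [RingHom.map_det, map_add, map_one]
    suffices (RingHom.mapMatrix (Ideal.Quotient.mk (Ideal.span {x}))) (x • D) = 0 by rw [this, add_zero, Matrix.det_one]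
    ext a b
    simp [Ideal.Quotient.eq_zero_iff_mem, Ideal.mem_span_singleton]
  rw [← map_one (Ideal.Quotient.mk (Ideal.span {x})), Ideal.Quotient.eq, Ideal.mem_span_singleton] at h
  obtain ⟨c, hc⟩ := h
  have hu := Ideal.mem_jacobson_bot.1 hx c
  rwa [← hc, sub_add_cancel] at hu

namespace Setup

variable {t : A} {g : A →+* A'} {i : A →+* L} {j : A' →+* L'} {gL : L →+* L'} (S : Setup t g i j gL)
include S

theorem unit' : IsUnit (j (g t)) := S.comm t ▸ S.unit.map gL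

theorem exists_bd [Fintype p] [Fintype q] (M : Matrix p q L') : ∃ k, Bd j (g t) k M := by
  choose k a ha using fun ab : p × q => S.surjL' (M ab.1 ab.2)
  refine ⟨Finset.univ.sup k, Matrix.of fun x y => g t ^ (Finset.univ.sup k - k (x, y)) * a (x, y), ?_⟩
  ext1 x y
  have hle : k (x, y) ≤ Finset.univ.sup k := Finset.le_sup (Finset.mem_univ _)
  simp only [Matrix.smul_apply, Matrix.map_apply, Matrix.of_apply, pow_zero, one_smul, smul_eq_mul, map_mul, map_pow]
  rw [← ha (x, y)]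
  conv_lhs => rw [show Finset.univ.sup k = Finset.univ.sup k - k (x, y) + k (x, y) by omega, pow_add]
  ring

theorem bd_of_integral (M : Matrix p q A) : Bd j (g t) 0 ((M.map i).map gL) :=
  ⟨M.map g, by
    ext1 x y
    simp [S.comm]⟩

theorem exists_approx [Fintype p] [Fintype q] (M : Matrix p q L') (n : ℕ) :
    ∃ M₀ : Matrix p q L, Sm j (g t) n (M - M₀.map gL) := by
  obtain ⟨k, N, hN⟩ := S.exists_bd M
  rw [pow_zero, one_smul] at hN
  choose a ha using fun ab : p × q => S.approx (n + k) (N ab.1 ab.2)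
  choose d hd using fun ab : p × q => Ideal.mem_span_singleton'.1 (ha ab)
  refine ⟨((S.unit.unit⁻¹ : Lˣ) : L) ^ k • Matrix.of (fun x y => i (a (x, y))), Matrix.of fun x y => d (x, y), ?_⟩
  ext1 x y
  simp only [Matrix.sub_apply, Matrix.smul_apply, Matrix.map_apply, Matrix.of_apply, smul_eq_mul, map_mul, map_pow, S.comm]
  refine (S.unit'.pow k).mul_left_cancel ?_
  have h1 := congrFun (congrFun hN x) y
  simp only [Matrix.smul_apply, Matrix.map_apply, smul_eq_mul] at h1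
  have h2 : j (g t) * gL ((S.unit.unit⁻¹ : Lˣ) : L) = 1 := by
    rw [← S.comm, ← map_mul, IsUnit.mul_val_inv, map_one]
  have h2' : j (g t) ^ k * gL ((S.unit.unit⁻¹ : Lˣ) : L) ^ k = 1 := by rw [← mul_pow, h2, one_pow]
  have h3 := congrArg j (hd (x, y))
  rw [map_mul, map_pow, map_sub, pow_add] at h3
  linear_combination h1 - j (g (a (x, y))) * h2' - h3

theorem exists_reflect (n : ℕ) (M : Matrix p q L) (hM : Sm j (g t) n (M.map gL)) :
    ∃ D : Matrix p q A, M = i t ^ n • D.map i := by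
  obtain ⟨N, hN⟩ := hM
  have key : ∀ x y, ∃ d : A, M x y = i t ^ n * i d := by
    intro x y
    obtain ⟨k, a, ha⟩ := S.surjL (M x y)
    have h1 := congrFun (congrFun hN x) y
    simp only [Matrix.smul_apply, Matrix.map_apply, smul_eq_mul] at h1
    have h2 : j (g a - g t ^ (n + k) * N x y) = 0 := by
      rw [map_sub, map_mul, map_pow, ← S.comm, ← ha, map_mul, map_pow, h1, S.comm]
      ring
    obtain ⟨l, hl⟩ := S.kerJ _ h2
    obtain ⟨d, hd⟩ := Ideal.mem_span_singleton'.1 (S.refl (l + (n + k)) (t ^ l * a) (Ideal.mem_span_singleton'.2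
      ⟨N x y, by rw [map_mul, map_pow]; linear_combination (-1 : A') * hl⟩))
    refine ⟨d, (S.unit.pow (k + l)).mul_left_cancel ?_⟩
    have h3 := congrArg i hd
    simp only [map_mul, map_pow] at h3
    linear_combination (i t ^ l) * ha - h3
  choose d hd using key
  exact ⟨Matrix.of d, by ext1 x y; simpa using hd x y⟩

variable [Fintype p] [DecidableEq p]

theorem isUnit_one_add' {n : ℕ} {E : Matrix p p L'} (hn : 1 ≤ n) (hE : Sm j (g t) n E) : IsUnit (1 + E) := by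
  obtain ⟨N, rfl⟩ := hE.mono hn
  have h := (isUnit_one_add_smul S.jac' N).map (RingHom.mapMatrix j)
  rw [map_add, map_one, RingHom.mapMatrix_apply, MonicDescLib.map_smul_ring] at h
  rwa [pow_one]

theorem isUnit_one_add {n : ℕ} {E : Matrix p p L} (hn : 1 ≤ n) (hE : Sm j (g t) n (E.map gL)) : IsUnit (1 + E) := by
  obtain ⟨D, rfl⟩ := S.exists_reflect 1 E (hE.mono hn)
  have h := (isUnit_one_add_smul S.jac D).map (RingHom.mapMatrix i)
  rw [map_add, map_one, RingHom.mapMatrix_apply, MonicDescLib.map_smul_ring] at h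
  rwa [pow_one]

theorem exists_inverse {n : ℕ} {E : Matrix p p L} (hn : 1 ≤ n) (hE : Sm j (g t) n (E.map gL)) :
    ∃ W : Matrix p p L, (1 + E) * W = 1 ∧ W * (1 + E) = 1 ∧ Bd j (g t) 0 (W.map gL) ∧
      Sm j (g t) n ((W - 1).map gL) := by
  obtain ⟨D, hD⟩ := S.exists_reflect 1 E (hE.mono hn)
  obtain ⟨u, hu⟩ := isUnit_one_add_smul S.jac D
  let φ : Matrix p p A →+* Matrix p p L := RingHom.mapMatrix i
  have h1 : φ u = 1 + E := by
    rw [hu, map_add, map_one, RingHom.mapMatrix_apply, MonicDescLib.map_smul_ring, hD, pow_one]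
  have hb : Bd j (g t) 0 ((φ ((u⁻¹ : (Matrix p p A)ˣ) : Matrix p p A)).map gL) := S.bd_of_integral _
  have hl : (1 + E) * φ ((u⁻¹ : (Matrix p p A)ˣ) : Matrix p p A) = 1 := by
    rw [← h1, ← map_mul, Units.mul_inv, map_one]
  refine ⟨_, hl, by rw [← h1, ← map_mul, Units.inv_mul, map_one], hb, ?_⟩
  have h2 : φ ((u⁻¹ : (Matrix p p A)ˣ) : Matrix p p A) - 1 = -(E * φ ((u⁻¹ : (Matrix p p A)ˣ) : Matrix p p A)) := by
    rw [add_mul, one_mul] at hl
    calc φ ((u⁻¹ : (Matrix p p A)ˣ) : Matrix p p A) - 1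
        = φ ((u⁻¹ : (Matrix p p A)ˣ) : Matrix p p A) -
          (φ ((u⁻¹ : (Matrix p p A)ˣ) : Matrix p p A) + E * φ ((u⁻¹ : (Matrix p p A)ˣ) : Matrix p p A)) := by rw [hl]
      _ = _ := by abel
  rw [h2, Matrix.map_neg _ (map_neg gL), Matrix.map_mul]
  exact (Sm.mul_bd (S.unit') (by simpa using hE) hb).neg

end Setup

end Groth.Agent.ApproxAwayLib
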