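import Mathlib
import Groth.Agent.ApproxAwayLib.Basic
import Groth.Agent.Hensel.Idempotent

/-!
Descent of idempotent matrices and their equivalences along `A[1/t] → A'[1/t]`.
-/

set_option autoImplicit false

universe u

namespace Groth.Agent.ApproxAwayLib

open Matrix MonicDescLib

theorem mequiv_of_isUnit {R : Type u} [CommRing R] {p q : Type} [Fintype p] [Fintype q] [DecidableEq p] [DecidableEq q]
    (e : Matrix p p R) (e' : Matrix q q R) (c : Matrix p q R) (d : Matrix q p R)
    (he : e * e = e) (he' : e' * e' = e') (hec : e * c = c) (hce : c * e' = c) (hde : d * e = d) (hed : e' * d = d)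
    (hu : IsUnit (1 + (c * d - e))) (hu' : IsUnit (1 + (d * c - e'))) : MEquiv e e' := by
  obtain ⟨v, hv⟩ := hu
  obtain ⟨v', hv'⟩ := hu'
  let W : Matrix p p R := ((v⁻¹ : (Matrix p p R)ˣ) : Matrix p p R)
  let W' : Matrix q q R := ((v'⁻¹ : (Matrix q q R)ˣ) : Matrix q q R)
  have hWl : W * (1 + (c * d - e)) = 1 := by rw [← hv]; exact v.inv_mul
  have hWr : (1 + (c * d - e)) * W = 1 := by rw [← hv]; exact v.mul_inv
  have hW'r : (1 + (d * c - e')) * W' = 1 := by rw [← hv']; exact v'.mul_inv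
  have hecd : e * (c * d) = c * d := by rw [← Matrix.mul_assoc, hec]
  have hcde : c * d * e = c * d := by rw [Matrix.mul_assoc, hde]
  have h1 : e * (1 + (c * d - e)) = c * d := by rw [mul_add, mul_one, mul_sub, hecd, he]; abel
  have h1' : (1 + (c * d - e)) * e = c * d := by rw [add_mul, one_mul, sub_mul, hcde, he]; abel
  have hWe : W * e = e * W := by
    calc W * e = W * (e * (1 + (c * d - e))) * W := by rw [Matrix.mul_assoc W, Matrix.mul_assoc e, hWr, Matrix.mul_one]
      _ = W * ((1 + (c * d - e)) * e) * W := by rw [h1, h1']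
      _ = _ := by rw [← Matrix.mul_assoc W, hWl, Matrix.one_mul]
  refine ⟨W * c, d, ?_, ?_⟩
  · rw [Matrix.mul_assoc, ← h1, ← Matrix.mul_assoc, hWe, Matrix.mul_assoc, hWl, Matrix.mul_one]
  · have hcW : W * c = c * W' := by
      have hswap : (1 + (c * d - e)) * c = c * (1 + (d * c - e')) := by
        simp only [Matrix.add_mul, Matrix.sub_mul, Matrix.mul_add, Matrix.mul_sub, Matrix.one_mul, Matrix.mul_one,
          hec, hce, Matrix.mul_assoc]
      calc W * c = W * (c * (1 + (d * c - e'))) * W' := by rw [Matrix.mul_assoc W, Matrix.mul_assoc c, hW'r, Matrix.mul_one]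
        _ = _ := by rw [← hswap, ← Matrix.mul_assoc W, hWl, Matrix.one_mul]
    have h2 : d * c = e' * (1 + (d * c - e')) := by
      rw [Matrix.mul_add, Matrix.mul_one, Matrix.mul_sub, ← Matrix.mul_assoc, hed, he']
      abel
    rw [hcW, ← Matrix.mul_assoc, h2, Matrix.mul_assoc, hW'r, Matrix.mul_one]

variable {A A' L L' : Type u} [CommRing A] [CommRing A'] [CommRing L] [CommRing L']
variable {t : A} {g : A →+* A'} {i : A →+* L} {j : A' →+* L'} {gL : L →+* L'} (S : Setup t g i j gL)
variable {p q : Type} [Fintype p] [Fintype q] [DecidableEq p] [DecidableEq q]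
include S

theorem mequiv_descend (e : Matrix p p L) (e' : Matrix q q L) (he : e * e = e) (he' : e' * e' = e')
    (h : MEquiv (e.map gL) (e'.map gL)) : MEquiv e e' := by
  obtain ⟨c₀, d₀, hcd₀, hdc₀⟩ := h
  let E := e.map gL
  let E' := e'.map gL
  have hE : E * E = E := by rw [← Matrix.map_mul, he]
  have hE' : E' * E' = E' := by rw [← Matrix.map_mul, he']
  let c := E * c₀ * E'
  let d := E' * d₀ * E
  have hcd : c * d = E := by
    calc c * d = E * c₀ * (E' * E') * d₀ * E := by simp only [c, d, Matrix.mul_assoc]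
      _ = E * ((c₀ * d₀) * (c₀ * d₀)) * E := by
        rw [hE', show E' = d₀ * c₀ from hdc₀.symm]; simp only [Matrix.mul_assoc]
      _ = E := by rw [show c₀ * d₀ = E from hcd₀, hE, hE, hE]
  have hdc : d * c = E' := by
    calc d * c = E' * d₀ * (E * E) * c₀ * E' := by simp only [c, d, Matrix.mul_assoc]
      _ = E' * ((d₀ * c₀) * (d₀ * c₀)) * E' := by
        rw [hE, show E = c₀ * d₀ from hcd₀.symm]; simp only [Matrix.mul_assoc]
      _ = E' := by rw [show d₀ * c₀ = E' from hdc₀, hE', hE', hE']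
  obtain ⟨k, hk⟩ := S.exists_bd E
  obtain ⟨k', hk'⟩ := S.exists_bd E'
  obtain ⟨kc, hkc⟩ := S.exists_bd c
  obtain ⟨d₁, hd₁⟩ := S.exists_approx d₀ (1 + kc + k + k')
  let D := e' * d₁ * e
  have hD : Sm j (g t) (1 + kc) (D.map gL - d) := by
    have h1 : D.map gL - d = E' * ((d₁.map gL - d₀) * E) := by
      simp only [D, d, Matrix.map_mul, Matrix.sub_mul, Matrix.mul_sub, Matrix.mul_assoc]
      rfl
    rw [h1]
    refine Sm.bd_mul S.unit' hk' ?_
    have : Sm j (g t) (1 + kc + k' + k) (d₁.map gL - d₀) := by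
      rw [show 1 + kc + k' + k = 1 + kc + k + k' by omega]
      exact hd₁.sub_comm
    exact Sm.mul_bd S.unit' this hk
  obtain ⟨kd, hkd⟩ := S.exists_bd (D.map gL)
  obtain ⟨c₁, hc₁⟩ := S.exists_approx c₀ (1 + kd + k + k')
  let C := e * c₁ * e'
  have hC : Sm j (g t) (1 + kd) (C.map gL - c) := by
    have h1 : C.map gL - c = E * ((c₁.map gL - c₀) * E') := by
      simp only [C, c, Matrix.map_mul, Matrix.sub_mul, Matrix.mul_sub, Matrix.mul_assoc]
      rfl
    rw [h1]
    exact Sm.bd_mul S.unit' hk (Sm.mul_bd S.unit' hc₁.sub_comm hk')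
  refine mequiv_of_isUnit e e' C D he he' (by simp only [C, ← Matrix.mul_assoc, he])
    (by simp only [C, Matrix.mul_assoc, he']) (by simp only [D, Matrix.mul_assoc, he]) (by simp only [D, ← Matrix.mul_assoc, he']) ?_ ?_
  · refine S.isUnit_one_add le_rfl ?_
    have h1 : (C * D - e).map gL = (C.map gL - c) * D.map gL + c * (D.map gL - d) := by
      rw [Matrix.map_sub _ (map_sub gL), Matrix.map_mul, Matrix.sub_mul, Matrix.mul_sub, hcd]
      abel
    rw [h1]
    exact (Sm.mul_bd S.unit' hC hkd).add (Sm.bd_mul S.unit' hkc hD)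
  · refine S.isUnit_one_add le_rfl ?_
    have h1 : (D * C - e').map gL = D.map gL * (C.map gL - c) + (D.map gL - d) * c := by
      rw [Matrix.map_sub _ (map_sub gL), Matrix.map_mul, Matrix.sub_mul, Matrix.mul_sub, hdc]
      abel
    rw [h1]
    exact (Sm.bd_mul S.unit' hkd hC).add (Sm.mul_bd S.unit' hD hkc)

theorem mequiv_of_close (P Q : Matrix p p L') (hP : P * P = P) (hQ : Q * Q = Q) {k : ℕ} (hk : Bd j (g t) k P)
    (h : Sm j (g t) (1 + k + k) (Q - P)) : MEquiv P Q := by
  have hbQ : Bd j (g t) k Q := by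
    rw [← add_sub_cancel P Q]
    exact hk.add (h.bd_zero.mono (Nat.zero_le k))
  refine mequiv_of_isUnit P Q (P * Q) (Q * P) hP hQ (by rw [← Matrix.mul_assoc, hP]) (by rw [Matrix.mul_assoc, hQ])
    (by rw [Matrix.mul_assoc, hP]) (by rw [← Matrix.mul_assoc, hQ]) (S.isUnit_one_add' le_rfl ?_) (S.isUnit_one_add' le_rfl ?_)
  · have h1 : P * Q * (Q * P) - P = P * ((Q - P) * P) := by
      rw [Matrix.sub_mul, Matrix.mul_sub, hP, hP, Matrix.mul_assoc P Q, ← Matrix.mul_assoc Q Q, hQ]
    rw [h1]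
    exact Sm.bd_mul S.unit' hk (Sm.mul_bd S.unit' h hk)
  · have h1 : Q * P * (P * Q) - Q = Q * ((P - Q) * Q) := by
      rw [Matrix.sub_mul, Matrix.mul_sub, hQ, hQ, Matrix.mul_assoc Q P, ← Matrix.mul_assoc P P, hP]
    rw [h1]
    exact Sm.bd_mul S.unit' hbQ (Sm.mul_bd S.unit' h.sub_comm hbQ)

omit [DecidableEq p] in
/-- A split surjection can be descended. -/
theorem exists_split_descend (π : Matrix q p L') (σ : Matrix p q L') (hπσ : π * σ = 1) [DecidableEq p] :
    ∃ (π₁ : Matrix q p L) (σ₁ : Matrix p q L), π₁ * σ₁ = 1 ∧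
      MEquiv ((1 - σ₁ * π₁).map gL) (1 - σ * π) := by
  obtain ⟨a, ha⟩ := S.exists_bd σ
  obtain ⟨b, hb⟩ := S.exists_bd π
  let kP := b + a + a + b
  let N := 1 + kP + kP + a + b
  obtain ⟨σ₀, hσ⟩ := S.exists_approx σ (N + a + b)
  obtain ⟨π₀, hπ⟩ := S.exists_approx π (N + a + b)
  have hbσ : Bd j (g t) a (σ₀.map gL) := by
    rw [← sub_sub_cancel σ (σ₀.map gL), sub_eq_add_neg]
    exact ha.add (hσ.neg.bd_zero.mono (Nat.zero_le a))
  have hε : Sm j (g t) N ((π₀ * σ₀ - 1).map gL) := by
    have h1 : (π₀ * σ₀ - 1).map gL = (π₀.map gL - π) * σ₀.map gL + π * (σ₀.map gL - σ) := by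
      rw [Matrix.map_sub _ (map_sub gL), Matrix.map_one _ (map_zero gL) (map_one gL), Matrix.map_mul, Matrix.sub_mul,
        Matrix.mul_sub, hπσ]
      abel
    rw [h1]
    exact (Sm.mul_bd S.unit' (hπ.sub_comm.mono (by omega)) hbσ).add
      (Sm.bd_mul S.unit' hb (hσ.sub_comm.mono (by omega)))
  obtain ⟨W, -, hW, hWb, hW1⟩ := S.exists_inverse (by omega : 1 ≤ N) hε
  rw [add_sub_cancel] at hW
  refine ⟨W * π₀, σ₀, by rw [Matrix.mul_assoc, hW], ?_⟩
  have hP : (1 - σ₀ * (W * π₀)).map gL * (1 - σ₀ * (W * π₀)).map gL = (1 - σ₀ * (W * π₀)).map gL := by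
    rw [← Matrix.map_mul]
    congr 1
    have : σ₀ * (W * π₀) * (σ₀ * (W * π₀)) = σ₀ * (W * π₀) := by
      calc σ₀ * (W * π₀) * (σ₀ * (W * π₀)) = σ₀ * ((W * (π₀ * σ₀)) * (W * π₀)) := by simp only [Matrix.mul_assoc]
        _ = _ := by rw [hW, Matrix.one_mul]
    rw [Matrix.sub_mul, Matrix.one_mul, Matrix.mul_sub, Matrix.mul_one, this, sub_self, sub_zero]
  have hQ : (1 - σ * π) * (1 - σ * π) = 1 - σ * π := by
    have : σ * π * (σ * π) = σ * π := by
      calc σ * π * (σ * π) = σ * ((π * σ) * π) := by simp only [Matrix.mul_assoc]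
        _ = _ := by rw [hπσ, Matrix.one_mul]
    rw [Matrix.sub_mul, Matrix.one_mul, Matrix.mul_sub, Matrix.mul_one, this, sub_self, sub_zero]
  have hbQ : Bd j (g t) kP (1 - σ * π) := by
    rw [sub_eq_add_neg]
    refine (bd_one.mono (Nat.zero_le _)).add ?_
    have h2 := (ha.mul hb).mono (show a + b ≤ kP by omega)
    simp only [Bd, smul_neg] at h2 ⊢
    exact h2.neg
  refine (mequiv_of_close S (1 - σ * π) _ hQ hP hbQ ?_).symm
  have h1 : (1 - σ₀ * (W * π₀)).map gL - (1 - σ * π) =
      -((σ₀.map gL - σ) * π + σ₀.map gL * ((π₀.map gL - π) + (W - 1).map gL * π₀.map gL)) := by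
    simp only [Matrix.map_sub _ (map_sub gL), Matrix.map_one _ (map_zero gL) (map_one gL), Matrix.map_mul, Matrix.sub_mul,
      Matrix.mul_sub, Matrix.mul_add, Matrix.one_mul]
    abel
  rw [h1]
  have hbπ : Bd j (g t) b (π₀.map gL) := by
    rw [← sub_sub_cancel π (π₀.map gL), sub_eq_add_neg]
    exact hb.add (hπ.neg.bd_zero.mono (Nat.zero_le b))
  refine ((Sm.mul_bd S.unit' (hσ.sub_comm.mono (by omega)) hb).add (Sm.bd_mul S.unit' hbσ ?_)).neg
  exact (hπ.sub_comm.mono (by omega)).add (Sm.mul_bd S.unit' (hW1.mono (by omega)) hbπ)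

/-- In a Henselian pair an idempotent of `A'[1/t]` comes from one of `A[1/t]` up to equivalence. -/
theorem exists_idempotent_descend (hH : HenselianRing A (Ideal.span {t})) (P' : Matrix p p L') (hP' : P' * P' = P') :
    ∃ P : Matrix p p L, P * P = P ∧ MEquiv (P.map gL) P' := by
  obtain ⟨k, hk⟩ := S.exists_bd P'
  let r := 1 + k + k + k
  obtain ⟨Q, hQ⟩ := S.exists_approx P' (r + k)
  have hq : Sm j (g t) r ((Q * Q - Q).map gL) := by
    have h1 : (Q * Q - Q).map gL =
        (Q.map gL - P') * (Q.map gL - P') + (Q.map gL - P') * P' + P' * (Q.map gL - P') - (Q.map gL - P') := by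
      simp only [Matrix.map_sub _ (map_sub gL), Matrix.map_mul, Matrix.sub_mul, Matrix.mul_sub, hP']
      abel
    rw [h1]
    refine (((Sm.mul hQ.sub_comm hQ.sub_comm).mono (by omega)).add (Sm.mul_bd S.unit' hQ.sub_comm hk)).add
      (Sm.bd_mul S.unit' hk hQ.sub_comm) |>.sub (hQ.sub_comm.mono (by omega))
  obtain ⟨D, hD⟩ := S.exists_reflect r (Q * Q - Q) hq
  let C := Algebra.adjoin A ({D} : Set (Matrix p p A))
  have hcomm : ∀ x y : Matrix p p A, x ∈ C → y ∈ C → x * y = y * x := fun x y hx hy => by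
    have : Commute D y := by
      refine Algebra.adjoin_induction (p := fun z _ => Commute D z) ?_ ?_ ?_ ?_ hy
      · intro z hz; rw [Set.mem_singleton_iff] at hz; subst hz; exact Commute.refl _
      · exact fun a => Algebra.commute_algebraMap_right a D
      · exact fun _ _ _ _ h h' => h.add_right h'
      · exact fun _ _ _ _ h h' => h.mul_right h'
    refine Algebra.adjoin_induction (p := fun z _ => Commute z y) ?_ ?_ ?_ ?_ hx
    · intro z hz; rw [Set.mem_singleton_iff] at hz; subst hz; exact this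
    · exact fun a => Algebra.commute_algebraMap_left a y
    · exact fun _ _ _ _ h h' => h.add_left h'
    · exact fun _ _ _ _ h h' => h.mul_left h'
  letI : CommRing C := { (inferInstance : Ring C) with mul_comm := fun x y => Subtype.ext (hcomm _ _ x.2 y.2) }
  haveI : Algebra.IsIntegral A C := ⟨fun x => (isIntegral_algHom_iff C.val Subtype.val_injective).1 (Matrix.isIntegral x.1)⟩
  haveI hHC : HenselianRing C ((Ideal.span {t}).map (algebraMap A C)) := Hensel.of_isIntegral C
  let T : Ideal C := (Ideal.span {t}).map (algebraMap A C)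
  have hT : ∀ x : C, algebraMap A C (t ^ r) * x ∈ T := fun x => T.mul_mem_right _ (Ideal.mem_map_of_mem _
    (Ideal.mem_span_singleton.2 (dvd_pow_self t (by omega))))
  let DC : C := ⟨D, Algebra.subset_adjoin rfl⟩
  let q₀ : C := algebraMap A C (t ^ r) * DC
  have h4 : IsUnit (1 + 4 * q₀) := by
    have := Ideal.mem_jacobson_bot.1 (hHC.jac (hT DC)) 4
    rwa [mul_comm q₀ 4, add_comm] at this
  let v : C := q₀ * ((h4.unit⁻¹ : Cˣ) : C)
  let f : Polynomial C := Polynomial.X ^ 2 + Polynomial.X + Polynomial.C v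
  have hf : f.Monic := by
    rcases subsingleton_or_nontrivial C with hsub | hnt
    · exact Polynomial.monic_of_subsingleton f
    show (Polynomial.X ^ 2 + Polynomial.X + Polynomial.C v).Monic
    rw [add_assoc]
    refine (Polynomial.monic_X_pow 2).add_of_left ?_
    refine lt_of_le_of_lt (Polynomial.degree_X_add_C v).le ?_
    rw [Polynomial.degree_X_pow]
    norm_num
  obtain ⟨w, hw, hw0⟩ := hHC.is_henselian f hf 0 (by
      simp only [f, Polynomial.eval_add, Polynomial.eval_pow, Polynomial.eval_X, Polynomial.eval_C]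
      have := T.mul_mem_right ((h4.unit⁻¹ : Cˣ) : C) (hT DC)
      simpa [v, q₀] using this) (by
      simp [f, Polynomial.derivative_pow])
  rw [Polynomial.IsRoot, Polynomial.eval_add, Polynomial.eval_add, Polynomial.eval_pow, Polynomial.eval_X,
    Polynomial.eval_C] at hw
  rw [sub_zero] at hw0
  have hw1 : IsUnit (w + 1) := by
    have := Ideal.mem_jacobson_bot.1 (hHC.jac hw0) 1
    rwa [mul_one] at this
  have hwr : ∃ z : C, w = algebraMap A C (t ^ r) * z := by
    refine ⟨-(DC * ((h4.unit⁻¹ : Cˣ) : C) * ((hw1.unit⁻¹ : Cˣ) : C)), hw1.mul_left_cancel ?_⟩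
    have h1 : (w + 1) * ((hw1.unit⁻¹ : Cˣ) : C) = 1 := hw1.mul_val_inv
    linear_combination hw + (q₀ * ((h4.unit⁻¹ : Cˣ) : C)) * h1
  obtain ⟨z, hz⟩ := hwr
  let ψ : Matrix p p A →+* Matrix p p L := RingHom.mapMatrix i
  let W : Matrix p p L := ψ w.1
  have hψa : ∀ a : A, ψ (algebraMap A (Matrix p p A) a) = i a • (1 : Matrix p p L) := fun a => by
    ext x y
    simp [ψ, Matrix.algebraMap_matrix_apply, Matrix.one_apply]
    split_ifs <;> simp
  have hψq : ψ q₀.1 = Q * Q - Q := by
    show ψ (algebraMap A (Matrix p p A) (t ^ r) * D) = _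
    rw [map_mul, hψa, smul_mul_assoc, one_mul, hD, map_pow]
    rfl
  have hQD : Commute Q (ψ D) := by
    have h1 : Commute Q (Q * Q - Q) := ((Commute.refl Q).mul_right (Commute.refl Q)).sub_right (Commute.refl Q)
    rw [hD] at h1
    show Q * D.map i = D.map i * Q
    have h2 : i t ^ r • (Q * D.map i) = i t ^ r • (D.map i * Q) := by
      rw [← Matrix.mul_smul, ← Matrix.smul_mul]
      exact h1
    exact (S.unit.pow r).smul_left_cancel.1 h2
  have hQW : Commute Q W := by
    refine Algebra.adjoin_induction (p := fun z _ => Commute Q (ψ z)) ?_ ?_ ?_ ?_ w.2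
    · intro z hz; rw [Set.mem_singleton_iff] at hz; subst hz; exact hQD
    · intro a
      rw [hψa]
      exact (Commute.one_right Q).smul_right _
    · exact fun _ _ _ _ h h' => by rw [map_add]; exact h.add_right h'
    · exact fun _ _ _ _ h h' => by rw [map_mul]; exact h.mul_right h'
  have hkey : (1 + 4 * (Q * Q - Q)) * (W * W + W) + (Q * Q - Q) = 0 := by
    have h1 : (1 + 4 * q₀) * (w * w + w) + q₀ = 0 := by
      have h2 : (1 + 4 * q₀) * ((h4.unit⁻¹ : Cˣ) : C) = 1 := h4.mul_val_inv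
      linear_combination (1 + 4 * q₀) * hw - q₀ * h2
    have h3 := congrArg (ψ ∘ Subtype.val) h1
    simp only [Function.comp_apply, AddMemClass.coe_add, MulMemClass.coe_mul, OneMemClass.coe_one, ZeroMemClass.coe_zero,
      map_add, map_mul, map_one, map_zero] at h3
    rw [show ψ (((4 : C) : Matrix p p A)) = 4 from map_ofNat ψ 4, hψq] at h3
    exact h3
  let P := Q + (2 * Q - 1) * W
  have hPP : P * P = P := by
    refine sub_eq_zero.1 ?_
    rw [← hkey]
    show (Q + (2 * Q - 1) * W) * (Q + (2 * Q - 1) * W) - (Q + (2 * Q - 1) * W) = _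
    have hc : W * Q = Q * W := hQW.eq.symm
    have hc' : ∀ X, W * (Q * X) = Q * (W * X) := fun X => by rw [← Matrix.mul_assoc, hc, Matrix.mul_assoc]
    simp only [Matrix.add_mul, Matrix.mul_add, Matrix.sub_mul, Matrix.mul_sub, Matrix.mul_assoc, two_mul, Matrix.one_mul,
      Matrix.mul_one, hc, hc', show (4 : Matrix p p L) = 1 + 1 + 1 + 1 by norm_num]
    abel
  refine ⟨P, hPP, (mequiv_of_close S P' (P.map gL) hP' (by rw [← Matrix.map_mul, hPP]) hk ?_).symm⟩
  have hWs : Sm j (g t) r (W.map gL) := by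
    refine ⟨(z.1).map g, ?_⟩
    show (ψ w.1).map gL = _
    rw [hz, MulMemClass.coe_mul, map_mul, show ((algebraMap A C (t ^ r) : C) : Matrix p p A) = algebraMap A _ (t ^ r) from rfl,
      hψa, smul_mul_assoc, one_mul, map_smul_ring, map_pow, map_pow, S.comm]
    ext x y
    simp [ψ, S.comm]
  have hbQ : Bd j (g t) k ((2 * Q - 1).map gL) := by
    have hbQ' : Bd j (g t) k (Q.map gL) := by
      rw [← sub_sub_cancel P' (Q.map gL), sub_eq_add_neg]
      exact hk.add (hQ.neg.bd_zero.mono (Nat.zero_le k))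
    rw [two_mul, Matrix.map_sub _ (map_sub gL), Matrix.map_add _ (map_add gL), Matrix.map_one _ (map_zero gL) (map_one gL),
      sub_eq_add_neg]
    refine (hbQ'.add hbQ').add ?_
    have h1 := (bd_one (j := j) (τ := g t) (q := p)).mono (Nat.zero_le k)
    simp only [Bd, smul_neg] at h1 ⊢
    exact h1.neg
  have h1 : P.map gL - P' = (Q.map gL - P') + (2 * Q - 1).map gL * W.map gL := by
    simp only [P, Matrix.map_add _ (map_add gL), Matrix.map_mul]
    abel
  rw [h1]
  exact (hQ.sub_comm.mono (by omega)).add ((Sm.bd_mul S.unit' hbQ (hWs.mono (by omega : (1 + k + k) + k ≤ r))))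

end Groth.Agent.ApproxAwayLib
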