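import Mathlib
import Groth.Agent.ApproxAwayLib.Main

/-!
Descent of finite projective modules along `A[1/t] → A'[1/t]`.
-/

set_option autoImplicit false

universe u

namespace Groth.Agent.ApproxAwayLib

open Matrix MonicDescLib TensorProduct

theorem idem_of_dualBasis {R M : Type u} [CommRing R] [AddCommGroup M] [Module R M] {p : Type} [Fintype p]
    (x : p → M) (φ : p → (M →ₗ[R] R)) (hx : ∀ z, ∑ i, φ i z • x i = z) :
    (Matrix.of fun i j => φ i (x j)) * (Matrix.of fun i j => φ i (x j)) = Matrix.of fun i j => φ i (x j) := by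
  ext1 i j
  simp only [Matrix.mul_apply, Matrix.of_apply]
  conv_rhs => rw [← hx (x j), map_sum]
  exact Finset.sum_congr rfl fun l _ => by rw [map_smul, smul_eq_mul, mul_comm]

variable {A A' L L' : Type u} [CommRing A] [CommRing A'] [CommRing L] [CommRing L'] [Algebra L L']
variable {t : A} {g : A →+* A'} {i : A →+* L} {j : A' →+* L'} (S : Setup t g i j (algebraMap L L'))

include S in
theorem linearEquiv_descend (M N : Type u) [AddCommGroup M] [Module L M] [Module.Finite L M] [Module.Projective L M]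
    [AddCommGroup N] [Module L N] [Module.Finite L N] [Module.Projective L N]
    (h : Nonempty (L' ⊗[L] M ≃ₗ[L'] L' ⊗[L] N)) : Nonempty (M ≃ₗ[L] N) := by
  classical
  obtain ⟨f⟩ := h
  obtain ⟨n, x, φ, hx⟩ := HorrocksLib.exists_dualBasis L M
  obtain ⟨m, y, ψ, hy⟩ := HorrocksLib.exists_dualBasis L N
  exact linearEquiv_of_mequiv x φ hx y ψ hy (mequiv_descend S _ _ (idem_of_dualBasis x φ hx) (idem_of_dualBasis y ψ hy)
    (mequiv_of_baseChange x φ hx y ψ hy f))

/-- The image of an idempotent matrix over `L` base changes to the module of an equivalent matrix over `L'`. -/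
theorem baseChange_range {p : Type} [Fintype p] [DecidableEq p] (P : Matrix p p L) (hP : P * P = P)
    {q : Type} [Fintype q] {M' : Type u} [AddCommGroup M'] [Module L' M'] (y : q → M') (ψ : q → (M' →ₗ[L'] L'))
    (hy : ∀ z, ∑ k, ψ k z • y k = z) (h : MEquiv (P.map (algebraMap L L')) (Matrix.of fun a b => ψ a (y b))) :
    Module.Finite L (LinearMap.range P.mulVecLin) ∧ Module.Projective L (LinearMap.range P.mulVecLin) ∧
      Nonempty (L' ⊗[L] LinearMap.range P.mulVecLin ≃ₗ[L'] M') := by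
  refine ⟨Module.Finite.range _, ?_, ?_⟩
  · refine Module.Projective.of_split (LinearMap.range P.mulVecLin).subtype P.mulVecLin.rangeRestrict ?_
    refine LinearMap.ext fun v => Subtype.ext ?_
    obtain ⟨w, hw⟩ := v.2
    show P.mulVec v.1 = v.1
    rw [← hw, Matrix.mulVecLin_apply, Matrix.mulVec_mulVec, hP]
  let M := LinearMap.range P.mulVecLin
  let x : p → L' ⊗[L] M := fun a => 1 ⊗ₜ P.mulVecLin.rangeRestrict (Pi.single a 1)
  let φ : p → (L' ⊗[L] M →ₗ[L'] L') := fun a =>
    ((Algebra.linearMap L L').comp ((LinearMap.proj a).comp M.subtype)).liftBaseChange L'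
  have hb : ∀ v : M, ∑ a, (v : p → L) a • P.mulVecLin.rangeRestrict (Pi.single a 1) = v := fun v => by
    obtain ⟨w, hw⟩ := v.2
    refine Subtype.ext ?_
    rw [AddSubmonoidClass.coe_finsetSum]
    simp only [SetLike.val_smul, LinearMap.codRestrict_apply]
    calc ∑ a, (v : p → L) a • P.mulVecLin (Pi.single a 1)
        = P.mulVecLin (∑ a, (v : p → L) a • Pi.single a 1) := by simp [map_sum, map_smul]
      _ = P.mulVecLin v.1 := by rw [← pi_eq_sum_univ' v.1]
      _ = v.1 := by rw [← hw, Matrix.mulVecLin_apply, Matrix.mulVecLin_apply, Matrix.mulVec_mulVec, hP]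
  have hx : ∀ z, ∑ a, φ a z • x a = z := by
    intro z
    induction z using TensorProduct.induction_on with
    | zero => simp
    | tmul a v =>
      conv_rhs => rw [← hb v, tmul_sum]
      refine Finset.sum_congr rfl fun b _ => ?_
      simp only [φ, x, LinearMap.liftBaseChange_tmul, smul_tmul', ← smul_tmul]
      congr 1
      simp [Algebra.smul_def, mul_comm]
    | add w₁ w₂ h₁ h₂ => simp only [map_add, add_smul, Finset.sum_add_distrib, h₁, h₂]
  refine linearEquiv_of_mequiv x φ hx y ψ hy ?_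
  convert h using 1
  ext a b
  simp [φ, x, Matrix.mulVec_single, Algebra.linearMap_apply, MulOpposite.smul_eq_mul_unop]

include S in
theorem exists_projective_descend (hH : HenselianRing A (Ideal.span {t})) (M' : Type u) [AddCommGroup M'] [Module L' M']
    [Module.Finite L' M'] [Module.Projective L' M'] :
    ∃ (M : Type u) (_ : AddCommGroup M) (_ : Module L M), Module.Finite L M ∧ Module.Projective L M ∧
      Nonempty (L' ⊗[L] M ≃ₗ[L'] M') := by
  classical
  obtain ⟨n, y, ψ, hy⟩ := HorrocksLib.exists_dualBasis L' M'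
  obtain ⟨P, hP, hPe⟩ := exists_idempotent_descend S hH _ (idem_of_dualBasis y ψ hy)
  obtain ⟨h1, h2, h3⟩ := baseChange_range P hP y ψ hy hPe
  exact ⟨LinearMap.range P.mulVecLin, inferInstance, inferInstance, h1, h2, h3⟩

include S in
theorem exists_stablyFree_descend (M' : Type u) [AddCommGroup M'] [Module L' M']
    (h : ∃ n m : ℕ, Nonempty ((M' × (Fin n → L')) ≃ₗ[L'] (Fin m → L'))) :
    ∃ (M : Type u) (_ : AddCommGroup M) (_ : Module L M), Module.Finite L M ∧
      (∃ n m : ℕ, Nonempty ((M × (Fin n → L)) ≃ₗ[L] (Fin m → L))) ∧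
      Nonempty (L' ⊗[L] M ≃ₗ[L'] M') := by
  classical
  obtain ⟨n, m, ⟨e⟩⟩ := h
  let σ : Matrix (Fin m) (Fin n) L' := LinearMap.toMatrix' (e.toLinearMap ∘ₗ LinearMap.inr L' M' (Fin n → L'))
  let π : Matrix (Fin n) (Fin m) L' := LinearMap.toMatrix' (LinearMap.snd L' M' (Fin n → L') ∘ₗ e.symm.toLinearMap)
  have hπσ : π * σ = 1 := by
    rw [← LinearMap.toMatrix'_comp, ← LinearMap.toMatrix'_id]
    congr 1
    exact LinearMap.ext fun v => by simp
  obtain ⟨π₁, σ₁, h₁, heq⟩ := exists_split_descend S π σ hπσ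
  let P : Matrix (Fin m) (Fin m) L := 1 - σ₁ * π₁
  have hσπ : σ₁ * π₁ * (σ₁ * π₁) = σ₁ * π₁ := by
    rw [Matrix.mul_assoc, ← Matrix.mul_assoc π₁, h₁, Matrix.one_mul]
  have hP : P * P = P := by
    rw [Matrix.sub_mul, Matrix.one_mul, Matrix.mul_sub, Matrix.mul_one, hσπ, sub_self, sub_zero]
  let y : Fin m → M' := fun k => (e.symm (Pi.single k 1)).1
  let ψ : Fin m → (M' →ₗ[L'] L') := fun k => LinearMap.proj k ∘ₗ e.toLinearMap ∘ₗ LinearMap.inl L' M' (Fin n → L')
  have hy : ∀ z, ∑ k, ψ k z • y k = z := fun z => by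
    calc ∑ k, ψ k z • y k = (e.symm (∑ k, (e (z, 0)) k • Pi.single k 1)).1 := by
          rw [map_sum, Prod.fst_sum]
          simp [ψ, y]
      _ = z := by rw [← pi_eq_sum_univ', e.symm_apply_apply]
  have hmat : (1 - σ * π) = Matrix.of fun a b => ψ a (y b) := by
    have h0 : ∀ w : M' × (Fin n → L'), e w - e (0, w.2) = e (w.1, 0) := fun w => by
      rw [← map_sub]
      congr 1
      ext <;> simp
    ext a b
    rw [← LinearMap.toMatrix'_id, ← LinearMap.toMatrix'_comp, ← map_sub, LinearMap.toMatrix'_apply]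
    have := congrFun (h0 (e.symm (Pi.single b 1))) a
    simp only [LinearEquiv.apply_symm_apply, Pi.sub_apply] at this
    simpa [ψ, y] using this
  rw [hmat] at heq
  obtain ⟨hfin, -, h3⟩ := baseChange_range P hP y ψ hy heq
  have hp : ∀ v : LinearMap.range P.mulVecLin, π₁.mulVec v.1 = 0 ∧ P.mulVec v.1 = v.1 := fun v => by
    obtain ⟨w, hw⟩ := v.2
    rw [← hw, Matrix.mulVecLin_apply, Matrix.mulVec_mulVec, Matrix.mulVec_mulVec, hP, Matrix.mul_sub, Matrix.mul_one,
      ← Matrix.mul_assoc, h₁, Matrix.one_mul, sub_self, Matrix.zero_mulVec]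
    exact ⟨rfl, rfl⟩
  let F : (LinearMap.range P.mulVecLin × (Fin n → L)) →ₗ[L] (Fin m → L) :=
    (LinearMap.range P.mulVecLin).subtype.coprod σ₁.mulVecLin
  let G : (Fin m → L) →ₗ[L] (LinearMap.range P.mulVecLin × (Fin n → L)) :=
    P.mulVecLin.rangeRestrict.prod π₁.mulVecLin
  refine ⟨LinearMap.range P.mulVecLin, inferInstance, inferInstance, hfin, ⟨n, m, ⟨LinearEquiv.ofLinear F G ?_ ?_⟩⟩, h3⟩
  · refine LinearMap.ext fun v => ?_
    show P.mulVec v + σ₁.mulVec (π₁.mulVec v) = v
    rw [Matrix.mulVec_mulVec, ← Matrix.add_mulVec, sub_add_cancel, Matrix.one_mulVec]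
  · refine LinearMap.ext fun v => ?_
    have hPσ : P * σ₁ = 0 := by rw [Matrix.sub_mul, Matrix.one_mul, Matrix.mul_assoc, h₁, Matrix.mul_one, sub_self]
    refine Prod.ext (Subtype.ext ?_) ?_
    · show P.mulVec (v.1.1 + σ₁.mulVec v.2) = v.1.1
      rw [Matrix.mulVec_add, (hp v.1).2, Matrix.mulVec_mulVec, hPσ, Matrix.zero_mulVec, add_zero]
    · show π₁.mulVec (v.1.1 + σ₁.mulVec v.2) = v.2
      rw [Matrix.mulVec_add, (hp v.1).1, Matrix.mulVec_mulVec, h₁, Matrix.one_mulVec, zero_add]

end Groth.Agent.ApproxAwayLib
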