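import Mathlib
import Groth.Agent.ApproxAwayLib.Basic
import Groth.Agent.PairHens.Basic

/-!
The completion, polynomial and henselization instances of `Setup`.
-/

set_option autoImplicit false

universe u

namespace Groth.Agent.ApproxAwayLib

open Polynomial

theorem setup_adicCompletion (A : Type u) [CommRing A] (t : A) (ht : t ∈ Ideal.jacobson (⊥ : Ideal A)) :
    Setup t (algebraMap A (AdicCompletion (Ideal.span {t}) A)) (algebraMap A (Localization.Away t))
      (algebraMap _ (Localization.Away (algebraMap A (AdicCompletion (Ideal.span {t}) A) t)))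
      (Localization.awayMap (algebraMap A (AdicCompletion (Ideal.span {t}) A)) t) := by
  let I : Ideal A := Ideal.span {t}
  let C := AdicCompletion I A
  have hfg : I.FG := ⟨{t}, by simp [I]⟩
  have hker : ∀ n, LinearMap.ker (AdicCompletion.eval I A n) = (I ^ n • ⊤ : Submodule A C) := fun n =>
    (AdicCompletion.pow_smul_top_eq_ker_eval (M := A) hfg).symm
  have hmap : ∀ n (x : C), x ∈ (I ^ n • ⊤ : Submodule A C) ↔ x ∈ Ideal.span {algebraMap A C t ^ n} := fun n x => by
    rw [Ideal.smul_top_eq_map, Submodule.restrictScalars_mem, Ideal.map_pow, Ideal.map_span, Set.image_singleton,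
      Ideal.span_singleton_pow]
  refine ⟨fun a => ?_, IsLocalization.Away.algebraMap_isUnit t, fun x => ?_, fun x => ?_, fun a ha => ?_, ht, ?_,
    fun n a' => ?_, fun n a ha => ?_⟩
  · exact IsLocalization.map_eq _ a
  · obtain ⟨k, a, h⟩ := IsLocalization.Away.surj t x
    exact ⟨k, a, h⟩
  · obtain ⟨k, a, h⟩ := IsLocalization.Away.surj (algebraMap A C t) x
    exact ⟨k, a, h⟩
  · obtain ⟨⟨_, k, rfl⟩, h⟩ := (IsLocalization.map_eq_zero_iff (Submonoid.powers (algebraMap A C t)) _ a).1 ha
    exact ⟨k, h⟩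
  · haveI : IsAdicComplete (I.map (algebraMap A C)) C :=
      (IsAdicComplete.map_algebraMap_iff _ _).2 (AdicCompletion.isAdicComplete hfg)
    exact IsAdicComplete.le_jacobson_bot (I.map (algebraMap A C)) (Ideal.mem_map_of_mem _ (Ideal.mem_span_singleton_self t))
  · obtain ⟨a, ha⟩ := Submodule.Quotient.mk_surjective _ (AdicCompletion.eval I A n a')
    refine ⟨a, (hmap n _).1 ?_⟩
    rw [← hker, LinearMap.mem_ker, map_sub, ← ha, sub_eq_zero]
    rfl
  · have h1 := (hker n).ge ((hmap n _).2 ha)
    rw [LinearMap.mem_ker] at h1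
    have h2 : (Submodule.Quotient.mk a : A ⧸ (I ^ n • ⊤ : Submodule A A)) = 0 := h1
    rw [Submodule.Quotient.mk_eq_zero, smul_eq_mul, Ideal.mul_top, Ideal.span_singleton_pow] at h2
    exact h2

variable (R : Type u) [CommRing R]

/-- Polynomials with constant term one. -/
def unitsAtZero : Submonoid R[X] where
  carrier := {f | f.coeff 0 = 1}
  one_mem' := by simp
  mul_mem' {a b} ha hb := by
    show (a * b).coeff 0 = 1
    rw [mul_coeff_zero, ha, hb, mul_one]

theorem X_mem_jacobson_powerSeries : (PowerSeries.X : PowerSeries R) ∈ Ideal.jacobson ⊥ := by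
  rw [Ideal.mem_jacobson_bot]
  intro y
  rw [PowerSeries.isUnit_iff_constantCoeff]
  simp

variable {R}

theorem ps_approx (n : ℕ) (a : PowerSeries R) :
    ∃ f : R[X], a - (f : PowerSeries R) ∈ Ideal.span {(PowerSeries.X : PowerSeries R) ^ n} := by
  refine ⟨PowerSeries.trunc n a, ?_⟩
  rw [Ideal.mem_span_singleton, PowerSeries.X_pow_dvd_iff]
  intro i hi
  simp [Polynomial.coeff_coe, PowerSeries.coeff_trunc, hi]

theorem ps_refl (n : ℕ) (f : R[X]) (h : (f : PowerSeries R) ∈ Ideal.span {(PowerSeries.X : PowerSeries R) ^ n}) :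
    (X : R[X]) ^ n ∣ f := by
  rw [Ideal.mem_span_singleton, PowerSeries.X_pow_dvd_iff] at h
  rw [Polynomial.X_pow_dvd_iff]
  intro i hi
  simpa [Polynomial.coeff_coe] using h i hi

variable {B L L' : Type u} [CommRing B] [Algebra R[X] B] [CommRing L] [CommRing L']

theorem setup_laurent (i : B →+* L) (gL : L →+* L') (e : L' ≃+* LaurentSeries R) (g : B →+* PowerSeries R)
    (hg : ∀ f : R[X], g (algebraMap R[X] B f) = (f : PowerSeries R))
    (he : ∀ b : B, e (gL (i b)) = HahnSeries.ofPowerSeries ℤ R (g b))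
    (hunit : IsUnit (i (algebraMap R[X] B X)))
    (hsurj : ∀ x : L, ∃ (k : ℕ) (b : B), x * i (algebraMap R[X] B X) ^ k = i b)
    (hjac : algebraMap R[X] B X ∈ Ideal.jacobson (⊥ : Ideal B))
    (hB : ∀ (n : ℕ) (b : B), ∃ f : R[X], b - algebraMap R[X] B f ∈ Ideal.span {algebraMap R[X] B X ^ n}) :
    Setup (algebraMap R[X] B X) g i (e.symm.toRingHom.comp (HahnSeries.ofPowerSeries ℤ R)) gL := by
  have hgX : g (algebraMap R[X] B X) = (PowerSeries.X : PowerSeries R) := by rw [hg, Polynomial.coe_X]
  refine ⟨fun b => ?_, hunit, hsurj, fun x => ?_, fun a ha => ⟨0, ?_⟩, hjac, ?_, fun n a' => ?_, fun n a ha => ?_⟩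
  · show gL (i b) = e.symm _
    rw [← he, e.symm_apply_apply]
  · obtain ⟨⟨a, ⟨_, k, rfl⟩⟩, h⟩ := IsLocalization.surj (Submonoid.powers (PowerSeries.X : PowerSeries R)) (e x)
    refine ⟨k, a, e.injective ?_⟩
    rw [hgX]
    simp only [RingEquiv.toRingHom_eq_coe, RingHom.coe_comp, RingHom.coe_coe, Function.comp_apply, map_mul, map_pow,
      RingEquiv.apply_symm_apply]
    simpa [LaurentSeries.coe_algebraMap] using h
  · rw [pow_zero, one_mul]
    exact HahnSeries.ofPowerSeries_injective (e.symm.injective (ha.trans (by simp)))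
  · rw [hgX]; exact X_mem_jacobson_powerSeries R
  · obtain ⟨f, hf⟩ := ps_approx n a'
    exact ⟨algebraMap R[X] B f, by rw [hgX, hg]; exact hf⟩
  · obtain ⟨f, hf⟩ := hB n a
    have h1 := Ideal.mem_map_of_mem g hf
    rw [Ideal.map_span, Set.image_singleton, map_pow, hgX, map_sub, hg] at h1
    rw [hgX] at ha
    have h2 := ps_refl n f (by
      have := sub_mem ha h1
      simpa using this)
    obtain ⟨c, rfl⟩ := h2
    have := add_mem hf (Ideal.mem_span_singleton'.2 ⟨algebraMap R[X] B c, (by
      rw [map_mul, map_pow, mul_comm] : algebraMap R[X] B c * algebraMap R[X] B X ^ n = algebraMap R[X] B (X ^ n * c))⟩)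
    simpa using this

theorem setup_henselian [Algebra B L] [IsLocalization.Away (algebraMap R[X] B X) L]
    (hB : Hens2.IsPairHenselization R[X] (Ideal.span {(X : R[X])}) B)
    (ψ : B →ₐ[R[X]] PowerSeries R) (gL : L →+* L') (e : L' ≃+* LaurentSeries R)
    (he : ∀ b : B, e (gL (algebraMap B L b)) = HahnSeries.ofPowerSeries ℤ R (ψ b)) :
    Setup (algebraMap R[X] B X) ψ.toRingHom (algebraMap B L)
      (e.symm.toRingHom.comp (HahnSeries.ofPowerSeries ℤ R)) gL := by
  refine setup_laurent _ gL e _ (fun f => ?_) he (IsLocalization.Away.algebraMap_isUnit _)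
    (fun x => IsLocalization.Away.surj _ x) ?_ (fun n b => ?_)
  · exact (ψ.commutes f).trans (by simp [PowerSeries.algebraMap_apply'])
  · exact hB.1.jac (Ideal.mem_map_of_mem _ (Ideal.mem_span_singleton_self _))
  · obtain ⟨r, hr⟩ := PairHens.exists_sub_mem_map_pow hB n b
    refine ⟨r, ?_⟩
    rwa [Ideal.span_singleton_pow, Ideal.map_span, Set.image_singleton, map_pow] at hr

theorem henselianRing_span (hB : Hens2.IsPairHenselization R[X] (Ideal.span {(X : R[X])}) B) :
    HenselianRing B (Ideal.span {algebraMap R[X] B X}) := by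
  have h := hB.1
  rwa [Ideal.map_span, Set.image_singleton] at h

end Groth.Agent.ApproxAwayLib
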